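import Groth.Agent.Lib.RhoShBig.Free
import Groth.Agent.Lib.Ref1.Rank
import Groth.Agent.Lib.Ref1.Frame
import Groth.Agent.Lib.HomSh.Coherent

/-!
# A flat module with invertible fibre is invertible near the fibre
-/

set_option autoImplicit false
set_option linter.all false
set_option maxHeartbeats 1000000
set_option backward.isDefEq.respectTransparency false

universe u

open CategoryTheory CategoryTheory.Limits AlgebraicGeometry IsLocalRing TensorProduct

noncomputable section

namespace GrothLib.NumTau26

/-- **Flat, with invertible fibre: generated by one free section near the fibre.** -/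
theorem genNear_of_fibre {P S : Scheme.{u}} (f : P ⟶ S) [Flat f] [LocallyOfFinitePresentation f]
    {F : P.Modules} (hfp : CohB1.IsFP F) (hfl : FlatMod.IsFlatOver f F) (s : S) (z : f.fiber s)
    (h : PicF.IsInvertible ((Scheme.Modules.pullback (f.fiberι s)).obj F)) :
    ParaPair.GenNear F (f.fiberι s z) := by
  haveI : F.IsQuasicoherent := by haveI := hfp; infer_instance
  let y := f.fiberι s z
  obtain ⟨hsurj, hker⟩ := FibreFlat.fiberι_stalkMap f s z
  let A := S.presheaf.stalk (f y)
  let B := P.presheaf.stalk y
  let Q := (f.fiber s).presheaf.stalk z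
  letI : Algebra A B := (f.stalkMap y).hom.toAlgebra
  haveI : IsLocalHom (algebraMap A B) := inferInstanceAs (IsLocalHom (f.stalkMap y).hom)
  letI : Algebra B Q := ((f.fiberι s).stalkMap z).hom.toAlgebra
  haveI : Module.Flat A B := Flat.stalkMap f y
  let M := F.presheaf.stalk y
  letI : Module A M := FlatMod.moduleStalkOver f F y
  haveI : IsScalarTower A B M := IsScalarTower.of_algebraMap_smul fun _ _ => rfl
  haveI : Module.Flat A M := hfl y
  obtain ⟨U, hU, hyU, -⟩ :=
    exists_isAffineOpen_mem_and_subset (show y ∈ (⊤ : P.Opens) from trivial)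
  haveI hMfp : Module.FinitePresentation B M := by
    letI := P.presheaf.algebra_section_stalk ⟨y, hyU⟩
    haveI := GrothLib.FlatFP.isLocalization_stalk_primeAt hU hyU
    letI : Module Γ(P, U) M := Module.compHom _ (P.presheaf.germ U y hyU).hom
    haveI : IsScalarTower Γ(P, U) B M := IsScalarTower.of_algebraMap_smul fun _ _ => rfl
    obtain ⟨g, hg, -⟩ := GrothLib.FlatFP.isLocalizedModule_germ F hU hyU
    haveI := GrothLib.FlatFP.finitePresentation_sections F hfp hU
    exact FinitePresentation.of_isBaseChange g
      (IsLocalizedModule.isBaseChange (GrothLib.WeakAss.primeAt y hyU).primeCompl B g)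
  let e : ((Scheme.Modules.pullback (f.fiberι s)).obj F).presheaf.stalk z ≃ₗ[Q] Q ⊗[B] M :=
    ((OX.pullStalkIso (f.fiberι s) z).app F).toLinearEquiv
  obtain ⟨t, ht⟩ := Ref1.exists_gen_of_isInvertible h z
  let e₁ : Q ≃ₗ[Q] Q ⊗[B] M := (LinearEquiv.ofBijective (LinearMap.toSpanSingleton Q _ t) ht).trans e
  haveI : Module.Free Q (Q ⊗[B] M) := Module.Free.of_equiv e₁
  haveI hfree : Module.Free B M := RhoShBig.free_of_fibre_free (A := A) (B := B) (F := Q)
    (GrothLib.FibreFlat.isEssFinitePresentation_stalkMap f y) hsurj hker M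
  haveI : Nontrivial B := inferInstance
  haveI : Nontrivial Q := inferInstance
  have h1 : Module.finrank B M = 1 := by
    rw [← Module.finrank_baseChange (R := Q), ← e₁.finrank_eq, Module.finrank_self]
  obtain ⟨V, n, v, hyV, hv⟩ := Ref1.exists_frame_of_free (HomSh.hasRel_of_isFP hfp) hfree
  obtain rfl : n = 1 := by
    rw [← (LinearEquiv.ofBijective _ (Ref1.stalk_of_isFrame hv y hyV)).finrank_eq, Module.finrank_fin_fun] at h1
    exact h1
  refine ⟨V, v 0, hyV, Ref1.isGen_of_gen fun x hx => ?_⟩
  have hb := Ref1.stalk_of_isFrame hv x hx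
  have he : (fun a : P.presheaf.stalk x => a • F.presheaf.germ V x hx (v 0)) =
      (Ref1.stalkComb v x hx) ∘ (LinearEquiv.funUnique (Fin 1) (P.presheaf.stalk x) (P.presheaf.stalk x)).symm := by
    funext a
    simp [Ref1.stalkComb, Fintype.linearCombination_apply]
  show Function.Bijective _
  rw [he]
  exact hb.comp (LinearEquiv.bijective _)

end GrothLib.NumTau26
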