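import Groth.Agent.Lib.NumTau26.Family
import Groth.Agent.Lib.NumReg26.Main
import Groth.Agent.Lib.BddReg26.Regular
import Groth.Agent.Lib.BddFam20.Quotients
import Groth.Agent.Lib.Cube.Square

/-!
# On a projective scheme numerically trivial modules form a bounded family and are τ-trivial
-/

set_option autoImplicit false
set_option linter.all false
set_option maxHeartbeats 1000000
set_option backward.isDefEq.respectTransparency false

universe u

open CategoryTheory CategoryTheory.Limits AlgebraicGeometry

noncomputable section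

namespace GrothLib.NumTau26

open GrothLib.Cube (Pic clsMod HasCls hasCls_clsMod hasCls_structureModule pull)
open GrothLib.HodgeIndex (rep isInv_rep cls_rep)
open GrothLib.FGAInt26 (ev)

variable {k : Type u} [Field k] {X : Scheme.{u}} [X.Over (Spec (CommRingCat.of k))]

/-- In a bounded family of invertible modules two powers of a member are algebraically equivalent. -/
theorem isTauEquivZero_of_bounded [IsProper (X ↘ Spec (CommRingCat.of k))] (P : X.Modules → Prop)
    (hP : ∀ L, P L → PicF.IsInvertible L) (hb : Pic13.IsBounded k X P) {L : X.Modules}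
    (hL : PicF.IsInvertible L) (hall : ∀ a : ℕ, P (CohB1.tensorPow L a)) : Pic13.IsTauEquivZero k X L := by
  obtain ⟨ι, hι, T, q, hT, M, hM, hcov⟩ := exists_families P hP hb
  haveI := hι
  choose f hf using fun a => hcov _ (hall a)
  obtain ⟨a, b, hne, hab⟩ := Finite.exists_ne_map_eq_of_infinite f
  wlog hlt : a < b generalizing a b with H
  · exact H b a hne.symm hab.symm (by omega)
  obtain ⟨ta, hta, ⟨ea⟩⟩ := hf a
  have hb' := hf b
  rw [← hab] at hb'
  obtain ⟨tb, htb, ⟨eb⟩⟩ := hb'
  refine ⟨b - a, by omega, T (f a), q (f a), (hT (f a)).1, (hT (f a)).2.1, (hT (f a)).2.2, ?_⟩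
  set z := clsMod hL
  let pr := pullback.fst (X ↘ Spec (CommRingCat.of k)) (q (f a))
  let E := (Scheme.Modules.pullback pr).obj (rep ((z ^ a)⁻¹))
  have hE : HasCls E (pull pr (z ^ a)⁻¹) := (NumReg26.hasCls_rep _).pullback pr
  have hMc : HasCls (M (f a)) (clsMod (hM (f a))) := hasCls_clsMod (hM (f a))
  refine ⟨CohB1.tensorMod (M (f a)) E, (hMc.tensor hE).1, tb, ta, htb, hta, ?_⟩
  have key : ∀ (s : Spec (CommRingCat.of k) ⟶ T (f a)) (hs : s ≫ q (f a) = 𝟙 _) (j : ℕ)
      (e : Pic13.fibreMod k X (q (f a)) s hs (M (f a)) ≅ CohB1.tensorPow L j),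
      HasCls (Pic13.fibreMod k X (q (f a)) s hs (CohB1.tensorMod (M (f a)) E)) (z ^ j * (z ^ a)⁻¹) := by
    intro s hs j e
    have h := (hMc.tensor hE).pullback (Pic13.sliceAt k X (q (f a)) s hs)
    rw [map_mul, Cube.pull_comp, show Pic13.sliceAt k X (q (f a)) s hs ≫ pr = 𝟙 X from pullback.lift_fst _ _ _,
      Cube.pull_id, (hMc.pullback _).eq ((hasCls_clsMod hL).tensorPow j) ⟨e⟩] at h
    exact h
  refine ⟨(key tb htb b eb).iso ((hasCls_clsMod hL).tensorPow (b - a)) ?_,
    (key ta hta a ea).iso (hasCls_structureModule X) (mul_inv_cancel _)⟩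
  rw [mul_inv_eq_iff_eq_mul, ← pow_add, Nat.sub_add_cancel hlt.le]

variable {n : ℕ} (i : X ⟶ CohB1.ProjSpace n k) [IsClosedImmersion i]
  (hi : i ≫ CohB1.ProjSpace.toSpec n k = X ↘ Spec (CommRingCat.of k))

include hi

/-- **The numerically trivial invertible modules on a projective scheme form a bounded family.** -/
theorem isBounded_numTrivial :
    Pic13.IsBounded k X (fun L : X.Modules => PicF.IsInvertible L ∧ Pic13.IsNumEquivZero k X L) := by
  haveI := BddFam20.isProper_of_closed i hi
  haveI := Euler.isNoetherian_of_proper (X := X) k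
  have hO : Coh.IsCoh (Coh.structureModule X) := Euler.isCoh_of_isInvertible Euler.isInvertible_structure
  obtain ⟨m, hm⟩ := NumReg26.exists_regular_twists i hi hO
  let A := (Scheme.Modules.pullback i).obj (Twist.twistProjSpace n k m)
  have hA : PicF.IsInvertible A := Ample.isInvertible_pullback i (CMReg.isInvertible_twist (n := n) (k := k) m)
  refine BddFam20.isBounded_mono
    (BddFam20.isBounded_regular_closed i hi m (ev k A 1).toNat) fun L ⟨hL, hnum⟩ => ?_
  have hLc : Coh.IsCoh L := Euler.isCoh_of_isInvertible hL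
  have hreg : Pic13.IsMRegular k i L m := fun q hq => by
    haveI : Subsingleton (Coh.HH X ((Euler.tF ((Scheme.Modules.pullback i).obj
        (Twist.twistProjSpace n k (m - q)))).obj (CohB1.tensorMod L (Coh.structureModule X))) q) :=
      hm L hL hnum q hq
    exact (Euler.hhEquiv (A := k) ((Euler.tF _).mapIso (GrTilde.tensorModComm L _ ≪≫
      OX.tensorUnitLeftIso L)) q).toEquiv.symm.subsingleton
  have hreg' := BddFam20.isMRegular_push i hi hLc hreg
  refine ⟨hLc, hreg', ?_⟩
  have h0 := BddFam20.euler_eq_h0 (FormalExist7.isCoh_pushforward i hLc) hreg' m le_rfl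
  rw [← (BddReg26.euler_push i hi hLc m).2] at h0
  have hz := hasCls_clsMod hL
  have h1 : Curv2.euler k X (Pic13.twistOn k i L m) = ev k A 1 := by
    rw [← (NumReg26.good_of_isCoh i hi (Euler.isCoh_of_isInvertible hA)).inv _
      ((NumReg26.numCls_iff k hz).2 hnum), ← FGAInt26.euler_tensor_eq' k hz]
    exact Euler.euler_of_iso k (GrTilde.tensorModComm L A)
  omega

/-- **Numerically trivial implies τ-trivial on a projective scheme.** -/
theorem isTauEquivZero_of_isNumEquivZero {L : X.Modules} (hL : PicF.IsInvertible L)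
    (hnum : Pic13.IsNumEquivZero k X L) : Pic13.IsTauEquivZero k X L := by
  haveI := BddFam20.isProper_of_closed i hi
  refine isTauEquivZero_of_bounded _ (fun _ h => h.1) (isBounded_numTrivial i hi) hL fun a => ?_
  have h := (hasCls_clsMod hL).tensorPow a
  exact ⟨h.1, (NumReg26.numCls_iff k h).1 (((NumReg26.numCls_iff k (hasCls_clsMod hL)).2 hnum).pow k a)⟩

end GrothLib.NumTau26
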