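import Groth.Agent.Lib.NumTau26.Twists
import Groth.Agent.Lib.Semiample.Criterion
import Groth.Agent.Lib.Ample.Product

/-!
# Twisting an ample module by a numerically trivial one keeps it ample
-/

set_option autoImplicit false
set_option linter.all false
set_option maxHeartbeats 800000
set_option backward.isDefEq.respectTransparency false

universe u

open CategoryTheory CategoryTheory.Limits AlgebraicGeometry

noncomputable section

namespace GrothLib.NumTau26

open GrothLib.Cube (Pic clsMod HasCls hasCls_clsMod hasCls_structureModule)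
open GrothLib.HodgeIndex (rep)

/-- Ample tensor globally generated is ample. -/
theorem isAmple_tensorMod_gg {X : Scheme.{u}} [CompactSpace X] {L M : X.Modules} (hL : CohB1.IsAmple L)
    (hM : PicF.IsInvertible M) (hg : Curv2.IsGloballyGenerated M) : CohB1.IsAmple (CohB1.tensorMod L M) := by
  obtain ⟨c, ⟨e⟩⟩ := Ample.exists_cocycle hL.1
  obtain ⟨c', ⟨e'⟩⟩ := Ample.exists_cocycle hM
  obtain ⟨d⟩ := c.nonempty_tensorMod_iso_prod c' e e'
  obtain ⟨n, a, ha⟩ := Semiample.exists_sections c' (Ample.isGloballyGenerated_of_iso e' hg)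
  refine ((c.prod c').isAmple_iff d).mpr ⟨inferInstance, c.isAmp_prod c' ((c.isAmple_iff e).mp hL).2 fun p => ?_⟩
  obtain ⟨i, hi⟩ := TopologicalSpace.Opens.mem_iSup.1 (ha.ge (TopologicalSpace.Opens.mem_top p))
  exact ⟨0, a i, hi⟩

variable {k : Type u} [Field k] {X : Scheme.{u}} [X.Over (Spec (CommRingCat.of k))]

/-- Regular modules on a closed subscheme of projective space are generated by their sections after twisting. -/
theorem isGloballyGenerated_of_regular {n : ℕ} (i : X ⟶ CohB1.ProjSpace n k) [IsClosedImmersion i]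
    (hi : i ≫ CohB1.ProjSpace.toSpec n k = X ↘ Spec (CommRingCat.of k)) {F : X.Modules} (hF : Coh.IsCoh F)
    {m : ℤ} (h : Pic13.IsMRegular k i F m) {b : ℤ} (hb : m ≤ b) :
    Curv2.IsGloballyGenerated (Pic13.twistOn k i F b) := by
  haveI := BddFam20.isProper_of_closed i hi
  haveI := Euler.isNoetherian_of_proper (X := X) k
  have hP := BddFam20.isMRegular_push i hi hF h
  have h1 := CMReg.spanned_of_regular (FormalExist7.isCoh_pushforward i hF) m hP b hb
  obtain ⟨g⟩ := Regularity.nonempty_push_tensor i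
    (Euler.isFinLocFree_of_isInvertible (CMReg.isInvertible_twist (n := n) (k := k) b)) F
    (Iso.refl ((Scheme.Modules.pullback i).obj (Twist.twistProjSpace n k b)))
  exact Ample.isGloballyGenerated_of_local _ (Regularity.spanned_of_push i (CMReg.Spanned.of_iso g.symm h1))

variable [IsProper (X ↘ Spec (CommRingCat.of k))]

/-- **Ampleness is a numerical property.** -/
theorem isAmple_tensorMod_numTrivial {H L : X.Modules} (hH : CohB1.IsAmple H) (hL : PicF.IsInvertible L)
    (hnum : Pic13.IsNumEquivZero k X L) : CohB1.IsAmple (CohB1.tensorMod L H) := by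
  haveI := Euler.isNoetherian_of_proper (X := X) k
  obtain ⟨r, N, i, hr, hi, hik, ⟨eH⟩⟩ := DecSh20.exists_embedding k hH
  haveI := hi
  obtain ⟨m, hm⟩ := NumReg26.exists_regular_twists i hik
    (Euler.isCoh_of_isInvertible (Euler.isInvertible_structure (X := X)))
  let M : ℕ := m.toNat
  let s : ℕ := r * (M + 1)
  let A := fun t : ℤ => (Scheme.Modules.pullback i).obj (Twist.twistProjSpace N k t)
  have hz := hasCls_clsMod hL
  let W := CohB1.tensorPow L s
  have hW : HasCls W (clsMod hL ^ s) := hz.tensorPow s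
  have hWn : Pic13.IsNumEquivZero k X W :=
    (NumReg26.numCls_iff k hW).1 (((NumReg26.numCls_iff k hz).2 hnum).pow k s)
  have hg : Curv2.IsGloballyGenerated (Pic13.twistOn k i W M) := by
    refine isGloballyGenerated_of_regular i hik (Euler.isCoh_of_isInvertible hW.1) (fun q hq => ?_)
      (Int.self_le_toNat m)
    haveI : Subsingleton (Coh.HH X ((Euler.tF (A (m - q))).obj (CohB1.tensorMod W (Coh.structureModule X))) q) :=
      hm W hW.1 hWn q hq
    exact (Euler.hhEquiv (A := k) ((Euler.tF _).mapIso (GrTilde.tensorModComm W _ ≪≫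
      OX.tensorUnitLeftIso W)) q).toEquiv.symm.subsingleton
  have hA1 : CohB1.IsAmple (A 1) :=
    (Ample.isAmple_iff_of_iso eH).1 ((Ample.isAmple_tensorPow_iff hH.1 hr).1 hH)
  have hG : HasCls (Pic13.twistOn k i W M) (clsMod hL ^ s * NumReg26.cl i ^ (M : ℤ)) :=
    hW.tensor (NumReg26.hasCls_cl i (M : ℤ))
  have hbig := isAmple_tensorMod_gg hA1 hG.1 hg
  have hc1 := (NumReg26.hasCls_cl i (1 : ℤ)).eq ((hasCls_clsMod hH.1).tensorPow r) ⟨eH.symm⟩
  have hT := (hz.tensor (hasCls_clsMod hH.1)).tensorPow s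
  obtain ⟨e⟩ := hT.iso ((NumReg26.hasCls_cl i (1 : ℤ)).tensor hG) (by
    rw [mul_pow, mul_left_comm]
    congr 1
    rw [show s = r * (M + 1) from rfl, pow_mul, ← hc1, ← zpow_add, ← zpow_natCast (NumReg26.cl i ^ (1 : ℤ)),
      ← zpow_mul, one_mul]
    congr 1
    push_cast
    ring)
  exact (Ample.isAmple_tensorPow_iff (Ample.isInvertible_tensorMod hL hH.1) (Nat.mul_pos hr M.succ_pos)).2
    ((Ample.isAmple_iff_of_iso e).2 hbig)

end GrothLib.NumTau26
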