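import Groth.Agent.Lib.NumTau26.FibreFree
import Groth.Agent.Lib.FlatStrat.Main
import Groth.Agent.Lib.FGAInt26.AlgEquiv
import Groth.Agent.Lib.GrpSchField.ImageSmooth
import Groth.Agent.Lib.Chev28.ConnValuation
import Groth.Agent.Lib.GeomSS.Main
import Groth.Prelude.Def_Pic13

/-!
# A bounded family of invertible modules lies in finitely many connected invertible families
-/

set_option autoImplicit false
set_option linter.all false
set_option maxHeartbeats 1600000
set_option backward.isDefEq.respectTransparency false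

universe u

open CategoryTheory CategoryTheory.Limits AlgebraicGeometry TopologicalSpace IsLocalRing

noncomputable section

namespace GrothLib.NumTau26

/-- The locus of the base over which a flat module is invertible is open. -/
theorem exists_open_invertible {P S : Scheme.{u}} (π : P ⟶ S) [Flat π] [LocallyOfFinitePresentation π] [IsProper π]
    {F : P.Modules} (hfp : CohB1.IsFP F) (hfl : FlatMod.IsFlatOver π F) :
    ∃ W : S.Opens, PicF.IsInvertible (F.restrict (π ⁻¹ᵁ W).ι) ∧
      ∀ s : S, PicF.IsInvertible ((Scheme.Modules.pullback (π.fiberι s)).obj F) → s ∈ W := by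
  let Z : Set P := {x | ParaPair.GenNear F x}ᶜ
  have hZ : IsClosed Z := isClosed_compl_iff.2 (isOpen_iff_forall_mem_open.2 fun x ⟨V, e, hx, he⟩ =>
    ⟨V, fun y hy => ⟨V, e, hy, he⟩, V.isOpen, hx⟩)
  refine ⟨⟨(π '' Z)ᶜ, (π.isClosedMap Z hZ).isOpen_compl⟩, ?_, fun s hs => ?_⟩
  · refine ParaPair.isInvertible_iff.2 fun x => ParaPair.genNear_of_push _
      ((ParaPair.genNear_unit_iff _ F ⟨x, rfl⟩).2 ?_)
    by_contra hne
    exact x.2 ⟨_, hne, rfl⟩
  · rintro ⟨x, hx, rfl⟩
    refine hx ?_
    have := genNear_of_fibre π hfp hfl (π x) (π.asFiber x) hs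
    rwa [π.fiberι_asFiber x] at this

variable {k : Type u} [Field k]

/-- A rational point is the base of its residue field. -/
theorem fromSpecResidueField_of_point {S : Scheme.{u}} (q : S ⟶ Spec (CommRingCat.of k))
    (t : Spec (CommRingCat.of k) ⟶ S) (ht : t ≫ q = 𝟙 _) :
    (S.fromSpecResidueField (t (closedPoint k)) ≫ q) ≫ t = S.fromSpecResidueField (t (closedPoint k)) := by
  let h := Scheme.descResidueField (Scheme.stalkClosedPointTo t)
  have hψ : Spec.map h ≫ S.fromSpecResidueField (t (closedPoint k)) = t :=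
    S.descResidueField_stalkClosedPointTo_fromSpecResidueField k t
  let h₂ := Spec.preimage (S.fromSpecResidueField (t (closedPoint k)) ≫ q)
  have h12 : h₂ ≫ h = 𝟙 _ := Spec.map_injective (by
    rw [Spec.map_comp, Spec.map_preimage, reassoc_of% hψ, ht, Spec.map_id])
  haveI : IsIso h := (ConcreteCategory.isIso_iff_bijective h).2 ⟨RingHom.injective h.hom, fun a =>
    ⟨h₂ a, by rw [← CategoryTheory.ConcreteCategory.comp_apply, h12]; rfl⟩⟩
  refine (cancel_epi (Spec.map h)).1 ?_
  rw [← Category.assoc, ← Category.assoc, hψ, ht, Category.id_comp]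

variable {X : Scheme.{u}} [X.Over (Spec (CommRingCat.of k))] [IsProper (X ↘ Spec (CommRingCat.of k))]

/-- **A bounded family of invertible modules lies in finitely many connected invertible families.** -/
theorem exists_families (P : X.Modules → Prop) (hP : ∀ L, P L → PicF.IsInvertible L)
    (hb : Pic13.IsBounded k X P) :
    ∃ (ι : Type u) (_ : Finite ι) (T : ι → Scheme.{u}) (q : ∀ i, T i ⟶ Spec (CommRingCat.of k)),
      (∀ i, ConnectedSpace (T i) ∧ LocallyOfFiniteType (q i) ∧ QuasiCompact (q i)) ∧
      ∃ M : ∀ i, (Pic13.prodK k X (q i)).Modules, (∀ i, PicF.IsInvertible (M i)) ∧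
        ∀ L, P L → ∃ (i : ι) (t : Spec (CommRingCat.of k) ⟶ T i) (ht : t ≫ q i = 𝟙 _),
          Nonempty (Pic13.fibreMod k X (q i) t ht (M i) ≅ L) := by
  obtain ⟨T, q, hft, hqc, G, hG, hall⟩ := hb
  haveI := hft
  haveI := hqc
  let p := X ↘ Spec (CommRingCat.of k)
  let π := pullback.snd p q
  haveI : IsProper π := MorphismProperty.pullback_snd (P := @IsProper) p q inferInstance
  haveI : Flat p := by
    have : Subsingleton ↥(Spec (CommRingCat.of k)) := inferInstanceAs (Subsingleton (PrimeSpectrum k))
    have : IsIntegral (Spec (CommRingCat.of k)) := inferInstance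
    infer_instance
  haveI : Flat π := inferInstance
  haveI : IsLocallyNoetherian T := LocallyOfFiniteType.isLocallyNoetherian q
  haveI : CompactSpace T := QuasiCompact.compactSpace_of_compactSpace q
  haveI : IsNoetherian T := {}
  haveI : LocallyOfFinitePresentation π := inferInstance
  haveI : IsLocallyNoetherian (Pic13.prodK k X q) := LocallyOfFiniteType.isLocallyNoetherian π
  haveI : CompactSpace (Pic13.prodK k X q) := QuasiCompact.compactSpace_of_compactSpace π
  haveI : IsNoetherian (Pic13.prodK k X q) := {}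
  haveI : G.IsQuasicoherent := hG.1
  obtain ⟨n, I, hmono, hlast, hfirst, -, hstep⟩ :=
    FlatStrat.exists_stratification π G (FunMor20.isFP_of_isCoh hG)
  let K : Fin n → T.IdealSheafData := fun i => I i.castSucc
  let L' : Fin n → T.IdealSheafData := fun i => I i.succ
  let S : Fin n → Scheme.{u} := fun i => ((K i).subschemeι ⁻¹ᵁ (L' i).support.compl).toScheme
  let j : ∀ i, S i ⟶ T := fun i => FlatStrat.stratumι (K i) (L' i)
  let F : ∀ i, (pullback π (j i)).Modules := fun i => (Scheme.Modules.pullback (pullback.fst π (j i))).obj G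
  have hW : ∀ i, ∃ W : (S i).Opens, PicF.IsInvertible ((F i).restrict ((pullback.snd π (j i)) ⁻¹ᵁ W).ι) ∧
      ∀ s : S i, PicF.IsInvertible ((Scheme.Modules.pullback ((pullback.snd π (j i)).fiberι s)).obj (F i)) → s ∈ W :=
    fun i => exists_open_invertible _ (FittSheaf.isFP_pullback _ G (FunMor20.isFP_of_isCoh hG)) (hstep i).2.2.2
  choose W hWinv hWmem using hW
  haveI hSN : ∀ i, IsNoetherian (W i).toScheme := fun i => by
    haveI : LocallyOfFiniteType (j i) := inferInstance
    haveI : IsLocallyNoetherian (S i) := LocallyOfFiniteType.isLocallyNoetherian (j i)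
    haveI : CompactSpace (S i) := by
      haveI : NoetherianSpace T.toTopCat := inferInstanceAs (NoetherianSpace T)
      haveI : NoetherianSpace (S i) := (j i).isEmbedding.isInducing.noetherianSpace
      infer_instance
    haveI : IsNoetherian (S i) := {}
    haveI : IsLocallyNoetherian (W i).toScheme := LocallyOfFiniteType.isLocallyNoetherian (W i).ι
    haveI : CompactSpace (W i).toScheme := by
      haveI : NoetherianSpace (W i).toScheme := (W i).ι.isOpenEmbedding.isInducing.noetherianSpace
      infer_instance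
    exact {}
  haveI : ∀ i, Finite (_root_.ConnectedComponents (W i).toScheme) := fun i =>
    Chev28.finite_connectedComponents _
  haveI : ∀ i, DiscreteTopology (_root_.ConnectedComponents (W i).toScheme) := fun i =>
    discreteTopology_iff_isOpen_singleton.2 fun c => by
      obtain ⟨x, rfl⟩ := ConnectedComponents.surjective_coe c
      rw [← ConnectedComponents.isQuotientMap_coe.isOpen_preimage, connectedComponents_preimage_singleton]
      exact (Chev28.isClopen_connectedComponent_of_finite x).isOpen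
  let C : ∀ i, _root_.ConnectedComponents (W i).toScheme → (W i).toScheme.Opens := fun i c =>
    ⟨ConnectedComponents.mk ⁻¹' {c}, (isOpen_discrete _).preimage ConnectedComponents.continuous_coe⟩
  let m : ∀ w : (Σ i, _root_.ConnectedComponents (W i).toScheme), (C w.1 w.2).toScheme ⟶ T :=
    fun w => (C w.1 w.2).ι ≫ (W w.1).ι ≫ j w.1
  let qq : ∀ w : (Σ i, _root_.ConnectedComponents (W i).toScheme), (C w.1 w.2).toScheme ⟶ Spec (CommRingCat.of k) :=
    fun w => m w ≫ q
  have hh : ∀ w, ∃ h' : Pic13.prodK k X (qq w) ⟶ (pullback.snd π (j w.1) ⁻¹ᵁ W w.1).toScheme,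
      h' ≫ (pullback.snd π (j w.1) ⁻¹ᵁ W w.1).ι ≫ pullback.fst π (j w.1) =
        pullback.lift (pullback.fst p (qq w)) (pullback.snd p (qq w) ≫ m w)
          (by rw [Category.assoc]; exact pullback.condition) := fun w => by
    let h : Pic13.prodK k X (qq w) ⟶ pullback π (j w.1) :=
      pullback.lift (pullback.lift (pullback.fst p (qq w)) (pullback.snd p (qq w) ≫ m w)
        (by rw [Category.assoc]; exact pullback.condition))
        (pullback.snd p (qq w) ≫ (C w.1 w.2).ι ≫ (W w.1).ι)
        (by simp only [π, pullback.lift_snd, m, Category.assoc])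
    refine ⟨IsOpenImmersion.lift (Scheme.Opens.ι _) h ?_, ?_⟩
    · rw [Scheme.Opens.range_ι]
      rintro _ ⟨x, rfl⟩
      show (h ≫ pullback.snd π (j w.1)) x ∈ W w.1
      rw [pullback.lift_snd]
      exact ((C w.1 w.2).ι (pullback.snd p (qq w) x)).2
    · rw [IsOpenImmersion.lift_fac_assoc, pullback.lift_fst]
  choose h' hh' using hh
  refine ⟨Σ i, _root_.ConnectedComponents (W i).toScheme, inferInstance, fun w => (C w.1 w.2).toScheme, qq,
    fun w => ⟨?_, ?_, ?_⟩,
    fun w => (Scheme.Modules.pullback (h' w)).obj ((F w.1).restrict (pullback.snd π (j w.1) ⁻¹ᵁ W w.1).ι),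
    fun w => Ample.isInvertible_pullback _ (hWinv w.1), ?_⟩
  · refine isConnected_iff_connectedSpace.1 ?_
    obtain ⟨x, hx⟩ := ConnectedComponents.surjective_coe w.2
    show _root_.IsConnected (ConnectedComponents.mk ⁻¹' {w.2})
    rw [← hx, connectedComponents_preimage_singleton]
    exact isConnected_connectedComponent
  · exact inferInstanceAs (LocallyOfFiniteType (((C w.1 w.2).ι ≫ (W w.1).ι ≫ j w.1) ≫ q))
  · haveI : NoetherianSpace (W w.1).toScheme := inferInstance
    haveI : NoetherianSpace (C w.1 w.2).toScheme := (C w.1 w.2).ι.isOpenEmbedding.isInducing.noetherianSpace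
    exact (quasiCompact_iff_compactSpace (qq w)).2 inferInstance
  intro L hL
  obtain ⟨t, ht, ⟨e⟩⟩ := hall L hL
  have hsl₁ : Pic13.sliceAt k X q t ht ≫ pullback.fst p q = 𝟙 X := pullback.lift_fst _ _ _
  have hsl₂ : Pic13.sliceAt k X q t ht ≫ pullback.snd p q = p ≫ t := pullback.lift_snd _ _ _
  -- the stratum of `t`
  let s := t (closedPoint k)
  obtain ⟨i, hsK, hsL⟩ : ∃ i : Fin n, s ∈ (K i).support ∧ s ∉ (L' i).support := by
    by_contra hne
    push Not at hne
    have hmem : ∀ a : Fin (n + 1), s ∈ (I a).support := fun a => by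
      induction a using Fin.induction with
      | zero => exact (Set.ext_iff.1 hfirst s).2 trivial
      | succ a ih => exact hne a ih
    have := hmem (Fin.last n)
    rw [hlast] at this
    rw [Scheme.IdealSheafData.support_top] at this
    exact this
  obtain ⟨t₁, ht₁⟩ := GrpSchField.exists_lift_of_range_subset (j i) t (by
    rintro _ ⟨a, rfl⟩
    rw [show t a = s from congrArg t (Subsingleton.elim _ _)]
    obtain ⟨u, hu⟩ : s ∈ Set.range (K i).subschemeι := by rw [(K i).range_subschemeι]; exact hsK
    exact ⟨⟨u, show (K i).subschemeι u ∈ ((L' i).support : Set T)ᶜ from hu.symm ▸ hsL⟩, hu⟩)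
  have ht₁q : t₁ ≫ (j i ≫ q) = 𝟙 _ := by rw [← Category.assoc, ht₁, ht]
  let s₁ := t₁ (closedPoint k)
  let πi := pullback.snd π (j i)
  have hinv : PicF.IsInvertible ((Scheme.Modules.pullback (πi.fiberι s₁)).obj (F i)) := by
    let ee : πi.fiber s₁ ⟶ X := πi.fiberι s₁ ≫ pullback.fst π (j i) ≫ pullback.fst p q
    have hee : πi.fiberι s₁ ≫ pullback.fst π (j i) = ee ≫ Pic13.sliceAt k X q t ht := by
      refine pullback.hom_ext ?_ ?_
      · simp only [ee, Category.assoc, hsl₁, Category.comp_id]
      · simp only [ee, Category.assoc, hsl₂]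
        show πi.fiberι s₁ ≫ pullback.fst π (j i) ≫ π = πi.fiberι s₁ ≫ pullback.fst π (j i) ≫ pullback.fst p q ≫ p ≫ t
        rw [show pullback.fst π (j i) ≫ π = pullback.snd π (j i) ≫ j i from pullback.condition,
          show pullback.fst p q ≫ p ≫ t = π ≫ q ≫ t from pullback.condition_assoc _]
        rw [show pullback.fst π (j i) ≫ π ≫ q ≫ t = pullback.snd π (j i) ≫ j i ≫ q ≫ t from pullback.condition_assoc _]
        have hfib : πi.fiberι s₁ ≫ pullback.snd π (j i) =
            πi.fiberToSpecResidueField s₁ ≫ (S i).fromSpecResidueField s₁ := pullback.condition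
        show πi.fiberι s₁ ≫ pullback.snd π (j i) ≫ j i = πi.fiberι s₁ ≫ pullback.snd π (j i) ≫ j i ≫ q ≫ t
        rw [reassoc_of% hfib, reassoc_of% hfib]
        congr 1
        conv_lhs => rw [← fromSpecResidueField_of_point (j i ≫ q) t₁ ht₁q]
        simp only [Category.assoc, ht₁]
        rfl
    refine ParaPair.isInvertible_of_iso ((Scheme.Modules.pullbackComp _ _).app G ≪≫
      (Scheme.Modules.pullbackCongr hee).app G ≪≫ ((Scheme.Modules.pullbackComp _ _).app G).symm ≪≫
      (Scheme.Modules.pullback ee).mapIso e) (Ample.isInvertible_pullback _ (hP L hL))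
  have hsW := hWmem i s₁ hinv
  let t₂ : Spec (CommRingCat.of k) ⟶ (W i).toScheme := IsOpenImmersion.lift (W i).ι t₁ (by
    rw [Scheme.Opens.range_ι]
    rintro _ ⟨a, rfl⟩
    rw [show t₁ a = s₁ from congrArg t₁ (Subsingleton.elim _ _)]
    exact hsW)
  let c := ConnectedComponents.mk (t₂ (closedPoint k))
  let t₃ : Spec (CommRingCat.of k) ⟶ (C i c).toScheme := IsOpenImmersion.lift (C i c).ι t₂ (by
    rw [Scheme.Opens.range_ι]
    rintro _ ⟨a, rfl⟩
    show ConnectedComponents.mk (t₂ a) = c
    rw [show t₂ a = t₂ (closedPoint k) from congrArg t₂ (Subsingleton.elim _ _)])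
  have ht₃ : t₃ ≫ qq ⟨i, c⟩ = 𝟙 _ := by
    simp only [qq, m, t₃, t₂, Category.assoc, IsOpenImmersion.lift_fac_assoc]
    exact ht₁q
  refine ⟨⟨i, c⟩, t₃, ht₃, ⟨?_⟩⟩
  refine (Scheme.Modules.pullback _).mapIso ((Scheme.Modules.pullback (h' ⟨i, c⟩)).mapIso
    ((Scheme.Modules.restrictFunctorIsoPullback _).app (F i))) ≪≫ ?_
  refine (Scheme.Modules.pullbackComp _ _).app _ ≪≫ (Scheme.Modules.pullbackComp _ _).app _ ≪≫
    (Scheme.Modules.pullbackComp _ _).app G ≪≫ (Scheme.Modules.pullbackCongr ?_).app G ≪≫ e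
  simp only [Category.assoc, hh']
  refine pullback.hom_ext ?_ ?_
  · rw [Category.assoc, hsl₁]
    erw [pullback.lift_fst, pullback.lift_fst]
  · rw [Category.assoc, hsl₂]
    erw [pullback.lift_snd, pullback.lift_snd_assoc]
    simp only [Category.assoc, m, t₃, t₂, IsOpenImmersion.lift_fac_assoc, ht₁]
    rfl

end GrothLib.NumTau26
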