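import Groth.Agent.Lib.NumTau26.Main
import Groth.Agent.Lib.DecSh20.Embed

/-!
# Ample twists, numerical triviality, τ-triviality
-/

set_option autoImplicit false
set_option linter.all false
set_option maxHeartbeats 600000
set_option backward.isDefEq.respectTransparency false

universe u

open CategoryTheory CategoryTheory.Limits AlgebraicGeometry

noncomputable section

namespace GrothLib.NumTau26

open GrothLib.Cube (Pic clsMod HasCls hasCls_clsMod hasCls_structureModule)
open GrothLib.HodgeIndex (rep)

variable {k : Type u} [Field k] {X : Scheme.{u}} [X.Over (Spec (CommRingCat.of k))]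
  [IsProper (X ↘ Spec (CommRingCat.of k))]

theorem curveDeg_of_hasCls {Y : Scheme.{u}} (i : Y ⟶ X) {L : X.Modules} {z : Pic X} (hL : HasCls L z) :
    Pic13.curveDeg k (i ≫ X ↘ Spec (CommRingCat.of k)) ((Scheme.Modules.pullback i).obj L) =
      Pic13.curveDeg k (i ≫ X ↘ Spec (CommRingCat.of k)) ((Scheme.Modules.pullback i).obj (rep z)) := by
  obtain ⟨e⟩ := hL.iso (NumReg26.hasCls_rep z) rfl
  exact NumPull26.curveDeg_congr k _ ((Scheme.Modules.pullback i).mapIso e)

theorem curveDeg_rep_pow {Y : Scheme.{u}} (i : Y ⟶ X) [IsClosedImmersion i] (h1 : IsIntegral Y)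
    (h2 : topologicalKrullDim Y = 1) (z : Pic X) : ∀ m : ℕ,
    Pic13.curveDeg k (i ≫ X ↘ Spec (CommRingCat.of k)) ((Scheme.Modules.pullback i).obj (rep (z ^ m))) =
      m * Pic13.curveDeg k (i ≫ X ↘ Spec (CommRingCat.of k)) ((Scheme.Modules.pullback i).obj (rep z))
  | 0 => by rw [pow_zero, NumReg26.numCls_one k Y i h1 h2]; simp
  | m + 1 => by rw [pow_succ, NumReg26.curveDeg_rep_mul k i h2, curveDeg_rep_pow i h1 h2 z m]; push_cast; ring

/-- If all twists of an ample module by powers of `L` and of its inverse are ample then `L` has degree zero on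
every integral curve. -/
theorem isNumEquivZero_of_twists_ample {H L L' : X.Modules} (hH : CohB1.IsAmple H) (hL : PicF.IsInvertible L)
    (hLL' : Nonempty (CohB1.tensorMod L L' ≅ Coh.structureModule X)) (hL' : PicF.IsInvertible L')
    (hamp : ∀ m : ℕ, CohB1.IsAmple (CohB1.tensorMod (CohB1.tensorPow L m) H) ∧
      CohB1.IsAmple (CohB1.tensorMod (CohB1.tensorPow L' m) H)) : Pic13.IsNumEquivZero k X L := by
  intro Y i _ h1 h2
  haveI := h1
  have hz := hasCls_clsMod hL
  have hw := hasCls_clsMod hL'
  have hh : HasCls H (clsMod hH.1) := hasCls_clsMod _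
  have hzw : clsMod hL * clsMod hL' = 1 := (hz.tensor hw).eq (hasCls_structureModule X) hLL'
  let d := fun z : Pic X =>
    Pic13.curveDeg k (i ≫ X ↘ Spec (CommRingCat.of k)) ((Scheme.Modules.pullback i).obj (rep z))
  have hadd : ∀ a b : Pic X, d (a * b) = d a + d b := NumReg26.curveDeg_rep_mul k i h2
  have hsum : d (clsMod hL) + d (clsMod hL') = 0 := by
    rw [← hadd, hzw]
    exact NumReg26.numCls_one k Y i h1 h2
  have hpos : ∀ (w : Pic X) (M : X.Modules), HasCls M w → (∀ m : ℕ,
      CohB1.IsAmple (CohB1.tensorMod (CohB1.tensorPow M m) H)) → ∀ m : ℕ, 0 < (m : ℤ) * d w + d (clsMod hH.1) := by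
    intro w M hM hA m
    have h := NumReg26.curveDeg_pos_of_ample k (hA m) i h2
    rw [curveDeg_of_hasCls i ((hM.tensorPow m).tensor hh)] at h
    change 0 < d _ at h
    rw [hadd, show d (w ^ m) = m * d w from curveDeg_rep_pow i h1 h2 w m] at h
    exact h
  rw [curveDeg_of_hasCls i hz]
  show d (clsMod hL) = 0
  have a1 := hpos _ L hz (fun m => (hamp m).1)
  have a2 := hpos _ L' hw (fun m => (hamp m).2)
  set c := d (clsMod hH.1)
  have hc : 0 < c := by simpa using a1 0
  rcases lt_trichotomy (d (clsMod hL)) 0 with h | h | h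
  · have := a1 c.toNat
    rw [Int.toNat_of_nonneg hc.le] at this
    nlinarith
  · exact h
  · have := a2 c.toNat
    rw [Int.toNat_of_nonneg hc.le] at this
    nlinarith

/-- On a scheme with an ample module numerically trivial means τ-trivial. -/
theorem isTauEquivZero_of_ample {H L : X.Modules} (hH : CohB1.IsAmple H) (hL : PicF.IsInvertible L)
    (hnum : Pic13.IsNumEquivZero k X L) : Pic13.IsTauEquivZero k X L := by
  obtain ⟨r, N, i, -, hi, hik, -⟩ := DecSh20.exists_embedding k hH
  haveI := hi
  exact isTauEquivZero_of_isNumEquivZero i hik hL hnum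

end GrothLib.NumTau26
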